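import Cfsg.Agent.Lib.Comp.X12.Perm
import Cfsg.Agent.Lib.Comp.PermGrp
import Cfsg.Agent.Lib.Comp.Bridge2
import Cfsg.Agent.Lib.Comp.X12.T0
import Cfsg.Agent.Lib.Comp.X12.T1
import Cfsg.Agent.Lib.Comp.X12.T2
import Cfsg.Agent.Lib.Comp.Out
import Cfsg.Agent.Lib.Comp.M12.Perm

set_option maxRecDepth 100000
set_option Elab.async false

namespace Cfsg.Lib.Comp.X12

universe u

theorem T2_ord : Ord.{u} iv T2_R [1,2,3,4,5,6,7,8,9,10] 96 :=
  (T2_idx.ord_base).of_cons (cons_of_subset (by decide +kernel))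

theorem T1_ord : Ord.{u} iv T1_R [1,2,3,4,5,6,7,8,9,10,11] 192 :=
  (T1_idx.ord_step T2_ord).of_cons (cons_of_subset (by decide +kernel))

theorem T0_ord : Ord.{u} iv T0_R [1,2,3,4,5,6,7,8,9,10,11,12,13,14] 95040 :=
  (T0_idx.ord_step T1_ord).of_cons (cons_of_subset (by decide +kernel))

theorem ord : Ord.{u} iv R L 95040 := T0_ord.of_cons (cons_of_subset (by decide +kernel))

theorem card : Nat.card (cl (gp nets) L) = 95040 := card_of_ord ord nets_iv nets_rel lb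

noncomputable def lpi : Net :=
 (Net.cons 12 (nat_lit 0x9c0)
 (Net.cons 6 (nat_lit 0x16014)
 (Net.cons 3 (nat_lit 0x80080)
 (Net.cons 1 (nat_lit 0x209040)
 (Net.cons 1 (nat_lit 0x492010)
 (Net.cons 1 (nat_lit 0x9008)
 (Net.cons 3 (nat_lit 0x4004)
 (Net.cons 6 (nat_lit 0x1900c)
 (Net.cons 12 (nat_lit 0x820)
 Net.nil)))))))))

theorem lpi_ok : lpi.ok 24 := ok_of_netOK (by decide +kernel)

theorem l_m1 : gp nets 1 ∈ (cl (gp M12.nets) M12.L).map (MulAut.conj lpi.perm).toMonoidHom :=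
  mem_conj_of_eqB (k := 5) (w := [75,72,72,69,64,69,1,1]) M12.nets_ok (by norm_num) lpi_ok (nets_ok 1)
    (fun _ h => cl_eq_of_slpB M12.nets_ok (by norm_num) M12.slp_ok ▸ mem_cl h) (by decide +kernel)

theorem l_m2 : gp nets 2 ∈ (cl (gp M12.nets) M12.L).map (MulAut.conj lpi.perm).toMonoidHom :=
  mem_conj_of_eqB (k := 5) (w := [75,74,69,74,65,65,2,2]) M12.nets_ok (by norm_num) lpi_ok (nets_ok 2)
    (fun _ h => cl_eq_of_slpB M12.nets_ok (by norm_num) M12.slp_ok ▸ mem_cl h) (by decide +kernel)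

theorem l_m3 : gp nets 3 ∈ (cl (gp M12.nets) M12.L).map (MulAut.conj lpi.perm).toMonoidHom :=
  mem_conj_of_eqB (k := 5) (w := [77,74,68,71,67,64,2,74]) M12.nets_ok (by norm_num) lpi_ok (nets_ok 3)
    (fun _ h => cl_eq_of_slpB M12.nets_ok (by norm_num) M12.slp_ok ▸ mem_cl h) (by decide +kernel)

theorem l_m4 : gp nets 4 ∈ (cl (gp M12.nets) M12.L).map (MulAut.conj lpi.perm).toMonoidHom :=
  mem_conj_of_eqB (k := 5) (w := [76,77,71,74,68,64,75,1,64]) M12.nets_ok (by norm_num) lpi_ok (nets_ok 4)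
    (fun _ h => cl_eq_of_slpB M12.nets_ok (by norm_num) M12.slp_ok ▸ mem_cl h) (by decide +kernel)

theorem l_m5 : gp nets 5 ∈ (cl (gp M12.nets) M12.L).map (MulAut.conj lpi.perm).toMonoidHom :=
  mem_conj_of_eqB (k := 5) (w := [75,72,72,68,68,64,1,1]) M12.nets_ok (by norm_num) lpi_ok (nets_ok 5)
    (fun _ h => cl_eq_of_slpB M12.nets_ok (by norm_num) M12.slp_ok ▸ mem_cl h) (by decide +kernel)

theorem l_m6 : gp nets 6 ∈ (cl (gp M12.nets) M12.L).map (MulAut.conj lpi.perm).toMonoidHom :=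
  mem_conj_of_eqB (k := 5) (w := [72,73,68,76,2,2]) M12.nets_ok (by norm_num) lpi_ok (nets_ok 6)
    (fun _ h => cl_eq_of_slpB M12.nets_ok (by norm_num) M12.slp_ok ▸ mem_cl h) (by decide +kernel)

theorem l_m7 : gp nets 7 ∈ (cl (gp M12.nets) M12.L).map (MulAut.conj lpi.perm).toMonoidHom :=
  mem_conj_of_eqB (k := 5) (w := [75,71,74,69,66,1,64]) M12.nets_ok (by norm_num) lpi_ok (nets_ok 7)
    (fun _ h => cl_eq_of_slpB M12.nets_ok (by norm_num) M12.slp_ok ▸ mem_cl h) (by decide +kernel)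

theorem l_m8 : gp nets 8 ∈ (cl (gp M12.nets) M12.L).map (MulAut.conj lpi.perm).toMonoidHom :=
  mem_conj_of_eqB (k := 5) (w := [77,71,69,74,2,74]) M12.nets_ok (by norm_num) lpi_ok (nets_ok 8)
    (fun _ h => cl_eq_of_slpB M12.nets_ok (by norm_num) M12.slp_ok ▸ mem_cl h) (by decide +kernel)

theorem l_m9 : gp nets 9 ∈ (cl (gp M12.nets) M12.L).map (MulAut.conj lpi.perm).toMonoidHom :=
  mem_conj_of_eqB (k := 5) (w := [72,69,74,64,2]) M12.nets_ok (by norm_num) lpi_ok (nets_ok 9)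
    (fun _ h => cl_eq_of_slpB M12.nets_ok (by norm_num) M12.slp_ok ▸ mem_cl h) (by decide +kernel)

theorem l_m10 : gp nets 10 ∈ (cl (gp M12.nets) M12.L).map (MulAut.conj lpi.perm).toMonoidHom :=
  mem_conj_of_eqB (k := 5) (w := [77,71,71,69,65,2,2]) M12.nets_ok (by norm_num) lpi_ok (nets_ok 10)
    (fun _ h => cl_eq_of_slpB M12.nets_ok (by norm_num) M12.slp_ok ▸ mem_cl h) (by decide +kernel)

theorem l_m11 : gp nets 11 ∈ (cl (gp M12.nets) M12.L).map (MulAut.conj lpi.perm).toMonoidHom :=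
  mem_conj_of_eqB (k := 5) (w := [75,72,72,69,65,65,2,2]) M12.nets_ok (by norm_num) lpi_ok (nets_ok 11)
    (fun _ h => cl_eq_of_slpB M12.nets_ok (by norm_num) M12.slp_ok ▸ mem_cl h) (by decide +kernel)

theorem l_m12 : gp nets 12 ∈ (cl (gp M12.nets) M12.L).map (MulAut.conj lpi.perm).toMonoidHom :=
  mem_conj_of_eqB (k := 5) (w := [77,71,68,72,65,1,68]) M12.nets_ok (by norm_num) lpi_ok (nets_ok 12)
    (fun _ h => cl_eq_of_slpB M12.nets_ok (by norm_num) M12.slp_ok ▸ mem_cl h) (by decide +kernel)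

theorem l_m13 : gp nets 13 ∈ (cl (gp M12.nets) M12.L).map (MulAut.conj lpi.perm).toMonoidHom :=
  mem_conj_of_eqB (k := 5) (w := [75,77,71,71,69,3]) M12.nets_ok (by norm_num) lpi_ok (nets_ok 13)
    (fun _ h => cl_eq_of_slpB M12.nets_ok (by norm_num) M12.slp_ok ▸ mem_cl h) (by decide +kernel)

theorem l_m14 : gp nets 14 ∈ (cl (gp M12.nets) M12.L).map (MulAut.conj lpi.perm).toMonoidHom :=
  mem_conj_of_eqB (k := 5) (w := [68,76,3]) M12.nets_ok (by norm_num) lpi_ok (nets_ok 14)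
    (fun _ h => cl_eq_of_slpB M12.nets_ok (by norm_num) M12.slp_ok ▸ mem_cl h) (by decide +kernel)

theorem perm : Nonempty (Spor.M12 ≃* cl (gp nets) L) := by
  obtain ⟨e⟩ := M12.perm
  have := M12.nets_ok.finite M12.L
  obtain ⟨φ, h1, h2⟩ := relabel e lpi.perm (G' := cl (gp nets) L)
    (cl_le.2 (by unfold L; simp only [List.forall_mem_cons]; exact ⟨l_m1, l_m2, l_m3, l_m4, l_m5, l_m6, l_m7, l_m8, l_m9, l_m10, l_m11, l_m12, l_m13, l_m14, by simp⟩)) (M12.card.trans_le lb)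
  exact ⟨(MonoidHom.ofInjective h1).trans (MulEquiv.subgroupCongr h2)⟩

end Cfsg.Lib.Comp.X12
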