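import Cfsg.Agent.Lib.Comp.X12.Base

set_option maxRecDepth 100000
set_option Elab.async false

namespace Cfsg.Lib.Comp.X12

universe u

noncomputable def nets_1 : Net :=
 (Net.cons 6 (nat_lit 0x2403c)
 (Net.cons 3 (nat_lit 0x4002)
 (Net.cons 1 (nat_lit 0x248041)
 (Net.cons 1 (nat_lit 0x12012)
 (Net.cons 1 (nat_lit 0x1009)
 (Net.cons 3 (nat_lit 0x181086)
 (Net.cons 6 (nat_lit 0x1703f)
 Net.nil)))))))

noncomputable def nets_3 : Net :=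
 (Net.cons 6 (nat_lit 0x400e)
 (Net.cons 3 (nat_lit 0x82106)
 (Net.cons 1 (nat_lit 0x208009)
 (Net.cons 1 (nat_lit 0x480090)
 (Net.cons 1 (nat_lit 0x200048)
 (Net.cons 3 (nat_lit 0x4107)
 (Net.cons 6 (nat_lit 0x3700c)
 Net.nil)))))))

noncomputable def nets_5 : Net :=
 (Net.cons 6 (nat_lit 0x4016)
 (Net.cons 3 (nat_lit 0x6100)
 (Net.cons 1 (nat_lit 0x8249)
 (Net.cons 1 (nat_lit 0x410082)
 (Net.cons 1 (nat_lit 0x200040)
 (Net.cons 3 (nat_lit 0x1020c4)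
 (Net.cons 6 (nat_lit 0x8030)
 Net.nil)))))))

noncomputable def nets_7 : Net :=
 (Net.cons 6 (nat_lit 0x28002)
 (Net.cons 3 (nat_lit 0x6004)
 (Net.cons 1 (nat_lit 0x8009)
 (Net.cons 1 (nat_lit 0x410492)
 (Net.cons 1 (nat_lit 0x200241)
 (Net.cons 3 (nat_lit 0x102141)
 (Net.cons 6 (nat_lit 0x24014)
 Net.nil)))))))

noncomputable def nets_9 : Net :=
 (Net.cons 6 (nat_lit 0x3a008)
 (Net.cons 3 (nat_lit 0x80006)
 (Net.cons 1 (nat_lit 0x201240)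
 (Net.cons 1 (nat_lit 0x410410)
 (Net.cons 1 (nat_lit 0x208)
 (Net.cons 3 (nat_lit 0x84002)
 (Net.cons 6 (nat_lit 0x3b021)
 Net.nil)))))))

noncomputable def nets_11 : Net :=
 (Net.cons 6 (nat_lit 0xa012)
 (Net.cons 3 (nat_lit 0x80)
 (Net.cons 1 (nat_lit 0x201201)
 (Net.cons 1 (nat_lit 0x400480)
 (Net.cons 1 (nat_lit 0x200200)
 (Net.cons 3 (nat_lit 0x84084)
 (Net.cons 6 (nat_lit 0xa012)
 Net.nil)))))))

noncomputable def nets_12 : Net :=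
 (Net.cons 6 (nat_lit 0x2403a)
 (Net.cons 3 (nat_lit 0x84080)
 (Net.cons 1 (nat_lit 0x40040)
 (Net.cons 1 (nat_lit 0x490492)
 (Net.cons 1 (nat_lit 0x208241)
 (Net.cons 3 (nat_lit 0x1010c1)
 (Net.cons 6 (nat_lit 0x1702d)
 Net.nil)))))))

noncomputable def nets_14 : Net :=
 (Net.cons 6 (nat_lit 0x1400c)
 (Net.cons 3 (nat_lit 0x82084)
 (Net.cons 1 (nat_lit 0x41241)
 (Net.cons 1 (nat_lit 0x480082)
 (Net.cons 1 (nat_lit 0x200041)
 (Net.cons 3 (nat_lit 0x142084)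
 (Net.cons 6 (nat_lit 0x1401c)
 Net.nil)))))))

noncomputable def nets_64 : Net :=
 (Net.cons 6 (nat_lit 0x1601a)
 (Net.cons 3 (nat_lit 0x180084)
 (Net.cons 1 (nat_lit 0x48000)
 (Net.cons 1 (nat_lit 0x92410)
 (Net.cons 1 (nat_lit 0x200)
 (Net.cons 3 (nat_lit 0x411c0)
 (Net.cons 6 (nat_lit 0x1202c)
 Net.nil)))))))

noncomputable def nets_66 : Net :=
 (Net.cons 6 (nat_lit 0x2)
 (Net.cons 3 (nat_lit 0x82000)
 (Net.cons 1 (nat_lit 0x41240)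
 (Net.cons 1 (nat_lit 0x410)
 (Net.cons 1 (nat_lit 0x200)
 (Net.cons 3 (nat_lit 0x86000)
 (Net.cons 6 (nat_lit 0x13006)
 Net.nil)))))))

noncomputable def nets_67 : Net :=
 (Net.cons 6 (nat_lit 0x1c030)
 (Net.cons 3 (nat_lit 0x104106)
 (Net.cons 1 (nat_lit 0x200248)
 (Net.cons 1 (nat_lit 0x492402)
 (Net.cons 1 (nat_lit 0x208000)
 (Net.cons 3 (nat_lit 0xc6044)
 (Net.cons 6 (nat_lit 0x2403c)
 Net.nil)))))))

noncomputable def nets_69 : Net :=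
 (Net.cons 6 (nat_lit 0x10016)
 (Net.cons 3 (nat_lit 0x182)
 (Net.cons 1 (nat_lit 0x208)
 (Net.cons 1 (nat_lit 0x92482)
 (Net.cons 1 (nat_lit 0x8200)
 (Net.cons 3 (nat_lit 0xc40c6)
 (Net.cons 6 (nat_lit 0x30000)
 Net.nil)))))))

noncomputable def nets_71 : Net :=
 (Net.cons 3 (nat_lit 0x182186)
 (Net.cons 1 (nat_lit 0x40048)
 (Net.cons 1 (nat_lit 0x90492)
 (Net.cons 1 (nat_lit 0x8208)
 (Net.cons 3 (nat_lit 0x144082)
 (Net.cons 6 (nat_lit 0x24)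
 Net.nil))))))

noncomputable def nets_73 : Net :=
 (Net.cons 6 (nat_lit 0x14)
 (Net.cons 3 (nat_lit 0x84080)
 (Net.cons 1 (nat_lit 0x248208)
 (Net.cons 1 (nat_lit 0x410490)
 (Net.cons 1 (nat_lit 0x208200)
 (Net.cons 3 (nat_lit 0x100004)
 (Net.cons 6 (nat_lit 0x3c)
 Net.nil)))))))

noncomputable def nets_75 : Net :=
 (Net.cons 6 (nat_lit 0x38)
 (Net.cons 3 (nat_lit 0x180)
 (Net.cons 1 (nat_lit 0x248240)
 (Net.cons 1 (nat_lit 0x490410)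
 (Net.cons 1 (nat_lit 0x208)
 (Net.cons 6 (nat_lit 0x38)
 Net.nil))))))

noncomputable def nets_77 : Net :=
 (Net.cons 6 (nat_lit 0x38)
 (Net.cons 1 (nat_lit 0x8048)
 (Net.cons 1 (nat_lit 0x492480)
 (Net.cons 1 (nat_lit 0x8200)
 (Net.cons 3 (nat_lit 0x1c0)
 (Net.cons 6 (nat_lit 0x38)
 Net.nil))))))

noncomputable def nets : List Net := (apd [Net.nil,
 nets_1,
 Net.rev nets_1,
 nets_3,
 Net.rev nets_3,
 nets_5,
 Net.rev nets_5,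
 nets_7,
 Net.rev nets_7,
 nets_9,
 Net.rev nets_9,
 nets_11,
 nets_12,
 Net.rev nets_12,
 nets_14,
 Net.nil,
 Net.nil,
 Net.nil,
 Net.nil,
 Net.nil,
 Net.nil,
 Net.nil,
 Net.nil,
 Net.nil,
 Net.nil,
 Net.nil,
 Net.nil,
 Net.nil,
 Net.nil,
 Net.nil,
 Net.nil,
 Net.nil,
 Net.nil,
 Net.nil,
 Net.nil,
 Net.nil,
 Net.nil,
 Net.nil,
 Net.nil,
 Net.nil]
 [Net.nil,
 Net.nil,
 Net.nil,
 Net.nil,
 Net.nil,
 Net.nil,
 Net.nil,
 Net.nil,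
 Net.nil,
 Net.nil,
 Net.nil,
 Net.nil,
 Net.nil,
 Net.nil,
 Net.nil,
 Net.nil,
 Net.nil,
 Net.nil,
 Net.nil,
 Net.nil,
 Net.nil,
 Net.nil,
 Net.nil,
 Net.nil,
 nets_64,
 Net.rev nets_64,
 nets_66,
 nets_67,
 Net.rev nets_67,
 nets_69,
 Net.rev nets_69,
 nets_71,
 Net.rev nets_71,
 nets_73,
 Net.rev nets_73,
 nets_75,
 Net.rev nets_75,
 nets_77])

theorem nets_ok : NetsOK 24 nets := netsOK_of (by decide +kernel)

theorem nets_rel : Rels (gp nets) R := rels_of_relsB (k := 5) nets_ok (by norm_num) (by decide +kernel)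

theorem nets_iv : IvOK (gp nets) iv := ivOK_of_ivB (k := 5) nets_ok (by norm_num) (by decide +kernel)

noncomputable def slp : List (ℕ × List ℕ) := [(64,[12,9,2]),
 (65,[1,10,13]),
 (66,[2,13,9,12]),
 (67,[64,64,66,64,64,64,66,64,64,64,66,65,65]),
 (68,[64,64,66,65,65,65,66,65,65,65,66,65,65]),
 (69,[65,66]),
 (70,[66,64]),
 (71,[69,67,69]),
 (72,[70,68,70]),
 (73,[68,68,70,67]),
 (74,[68,69,67,67]),
 (75,[72,73,71]),
 (76,[72,74,71]),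
 (77,[74,71,74,72])]

theorem slp_ok : slpB 24 5 nets slp L = true := by decide +kernel

theorem mem_all {x : ℕ} (h : x ∈ L ++ slp.map (·.1)) : gp nets x ∈ cl (gp nets) L :=
  cl_eq_of_slpB nets_ok (by norm_num) slp_ok ▸ mem_cl h

theorem lb : 95040 ≤ Nat.card (cl (gp nets) L) := by
  rw [← cl_eq_of_slpB nets_ok (by norm_num) slp_ok]
  exact lb_of_chainB nets_ok (C := [([64,65,66,67,68,69,70,71,72,73,74,75,76,77],[1,3,12,5,1],0,0,12),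
 ([67,68,69,70,71,72,73,74,75,76,77],[64,64,67,71,67,64],12,12,12),
 ([71,72,73,74,75,76,77],[67,69,67,73,69],1,1,11),
 ([75,76,77],[71,71,73,75,71],2,2,10),
 ([],[75,77,75],3,3,6)]) (by decide +kernel)

end Cfsg.Lib.Comp.X12
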